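import Groth.Agent.PicGal.Pieces
import Groth.Agent.FppfPic.Rigid
import Groth.Agent.FppfPic.FlatFunctions
import Groth.Agent.PicInsep.Basic
import Mathlib.FieldTheory.Normal.Closure

/-!
# Galois descent of line bundle classes on a scheme with a rational point
-/

set_option autoImplicit false
set_option linter.style.haveILetI false
set_option linter.unusedSectionVars false
set_option backward.isDefEq.respectTransparency false
set_option backward.isDefEq.respectTransparency.types false
set_option maxHeartbeats 1000000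
set_option synthInstance.maxHeartbeats 400000

universe u

open CategoryTheory CategoryTheory.Limits AlgebraicGeometry Opposite

namespace Groth.Agent.PicGal

open scoped Groth.Agent.H23.PicMul

variable {k : Type u} [Field k] {X : Scheme.{u}} (f : X ⟶ Spec (CommRingCat.of k))

theorem bijective_app_self [QuasiCompact f] [QuasiSeparated f] (hH0 : IsIso f.appTop) (V : (Spec (CommRingCat.of k)).Opens) :
    Function.Bijective (f.app V) :=
  PicLocLib.bijective_app_of_flat f (𝟙 _) f (𝟙 X) (IsPullback.of_horiz_isIso ⟨by simp⟩)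
    ((ConcreteCategory.isIso_iff_bijective _).1 hH0) V

theorem flat_spec_algebraMap (K : Type u) [Field K] [Algebra k K] :
    Flat (Spec.map (CommRingCat.ofHom (algebraMap k K))) ∧ Surjective (Spec.map (CommRingCat.ofHom (algebraMap k K))) :=
  ⟨Flat.SpecMap_iff.2 (RingHom.flat_algebraMap_iff.2 inferInstance),
    ⟨fun x => ⟨IsLocalRing.closedPoint K, Subsingleton.elim (α := PrimeSpectrum k) _ x⟩⟩⟩

/-- Classes fixed by a finite Galois group descend. -/
theorem exists_descend_finite [CompactSpace X] [QuasiSeparatedSpace X] (hH0 : IsIso f.appTop)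
    (x : Spec (CommRingCat.of k) ⟶ X) (hx : x ≫ f = 𝟙 _)
    (K : Type u) [Field K] [Algebra k K] [FiniteDimensional k K] [IsGalois k K]
    (d : PicF.Cl (pullback f (Spec.map (CommRingCat.ofHom (algebraMap k K))))) (hd : PicF.IsInvertibleCl d)
    (hfix : ∀ σ : K ≃ₐ[k] K, PicF.pullCl (PicF2.twistAut f σ) d = d) :
    ∃ c : PicF.Cl X, PicF.IsInvertibleCl c ∧
      PicF.pullCl (pullback.fst f (Spec.map (CommRingCat.ofHom (algebraMap k K)))) c = d := by
  haveI : QuasiCompact f := (quasiCompact_iff_compactSpace f).2 ‹_›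
  haveI : QuasiSeparated f := (quasiSeparated_iff_quasiSeparatedSpace f).2 ‹_›
  set u := Spec.map (CommRingCat.ofHom (algebraMap k K))
  haveI : Flat u := (flat_spec_algebraMap K).1
  haveI : Surjective u := (flat_spec_algebraMap K).2
  obtain ⟨L, rfl, hL⟩ := id hd
  let sU : Spec (CommRingCat.of K) ⟶ pullback f u :=
    pullback.lift (u ≫ x) (𝟙 _) (by rw [Category.assoc, hx, Category.comp_id, Category.id_comp])
  have hrig : PicF.pullCl sU (PicF.cl L) = 1 := by
    rw [H23.PicMul.one_def]
    exact H23.PicMul.cl_eq_iff.2 (ParaFX.picTrivial_spec_local K _ (PicClLib.isInvertible_pullback sU hL))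
  have hglue : PicF.pullCl (pullback.fst (pullback.fst f u) (pullback.fst f u)) (PicF.cl L) =
      PicF.pullCl (pullback.snd (pullback.fst f u) (pullback.fst f u)) (PicF.cl L) := by
    refine eq_of_graphs f (PicLoc.isInvertibleCl_pullCl _ hd) (PicLoc.isInvertibleCl_pullCl _ hd) fun σ => ?_
    rw [← PicLoc.pullCl_comp, ← PicLoc.pullCl_comp, graph_fst, graph_snd, hfix σ, PicLoc.pullCl_id]
  obtain ⟨M, hM, hp, -⟩ := FppfPic.exists_descend_rigid_fpqc (pr := f)
    (FppfPic.flatBij_of_base f (bijective_app_self f hH0)) (IsPullback.of_hasPullback f u) x hx sU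
    (pullback.lift_fst _ _ _) (pullback.lift_snd _ _ _) hL hrig hglue
  exact ⟨_, ⟨M, rfl, hM⟩, hp⟩

/-- A class on `X_{k'}` comes from a finite Galois level. -/
theorem exists_level [CompactSpace X] [QuasiSeparatedSpace X]
    (k' : Type u) [Field k'] [Algebra k k'] [IsGalois k k']
    (d : PicF.Cl (pullback f (Spec.map (CommRingCat.ofHom (algebraMap k k'))))) (hd : PicF.IsInvertibleCl d) :
    ∃ (E : IntermediateField k k') (_ : FiniteDimensional k E) (_ : IsGalois k E)
      (h : pullback f (Spec.map (CommRingCat.ofHom (algebraMap k k'))) ⟶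
        pullback f (Spec.map (CommRingCat.ofHom (algebraMap k E))))
      (dE : PicF.Cl (pullback f (Spec.map (CommRingCat.ofHom (algebraMap k E))))),
      h ≫ pullback.fst _ _ = pullback.fst _ _ ∧
      h ≫ pullback.snd _ _ = pullback.snd _ _ ≫ Spec.map (CommRingCat.ofHom (algebraMap E k')) ∧
      PicF.IsInvertibleCl dE ∧ PicF.pullCl h dE = d := by
  classical
  haveI : QuasiCompact f := (quasiCompact_iff_compactSpace f).2 ‹_›
  haveI : QuasiSeparated f := (quasiSeparated_iff_quasiSeparatedSpace f).2 ‹_›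
  let ι := {B : Subalgebra k k' // B.FG}
  letI : SemilatticeSup ι := Subtype.semilatticeSup fun _ _ h h' => h.sup h'
  haveI : Nonempty ι := ⟨⟨⊥, Subalgebra.fg_bot⟩⟩
  let F : ι ⥤ CommRingCat.{u} :=
    { obj := fun B => CommRingCat.of B.1
      map := fun {B C} g => CommRingCat.ofHom (Subalgebra.inclusion (leOfHom g : B.1 ≤ C.1)).toRingHom
      map_id := fun _ => rfl
      map_comp := fun _ _ => rfl }
  let cF : Cocone F :=
    { pt := CommRingCat.of k'
      ι := { app := fun B => CommRingCat.ofHom B.1.val.toRingHom, naturality := fun _ _ _ => rfl } }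
  have hF : IsColimit cF := by
    haveI : ReflectsColimit F (forget CommRingCat) := reflectsColimit_of_reflectsIsomorphisms _ _
    refine isColimitOfReflects (forget CommRingCat) (Types.FilteredColimit.isColimitOf' _ _ ?_ ?_)
    · intro (x : k')
      exact ⟨(⟨Algebra.adjoin k {x}, ⟨{x}, by simp⟩⟩ : ι), ⟨x, Algebra.self_mem_adjoin_singleton k x⟩, rfl⟩
    · intro i x y hxy
      exact ⟨i, 𝟙 i, Subtype.ext hxy⟩
  let D : ιᵒᵖ ⥤ Scheme.{u} := F.op ⋙ Scheme.Spec
  let cD : Cone D := Scheme.Spec.mapCone cF.op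
  have hlim : IsLimit cD := isLimitOfPreserves Scheme.Spec hF.op
  haveI : ∀ {i j : ιᵒᵖ} (g : i ⟶ j), IsAffineHom (D.map g) := fun g =>
    inferInstanceAs (IsAffineHom (Spec.map _))
  let i₀ : ιᵒᵖ := op ⟨⊥, Subalgebra.fg_bot⟩
  let s₀ : D.obj i₀ ⟶ Spec (CommRingCat.of k) :=
    Spec.map (CommRingCat.ofHom (algebraMap k (⊥ : Subalgebra k k')))
  let g' := Spec.map (CommRingCat.ofHom (algebraMap k k'))
  have hs₀ : cD.π.app i₀ ≫ s₀ = g' := by
    show Spec.map _ ≫ Spec.map _ = _
    rw [← Spec.map_comp]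
    rfl
  let xi : pullback f s₀ ⟶ D.obj i₀ := pullback.snd f s₀
  haveI : CompactSpace ↥(pullback f s₀) := by
    haveI : CompactSpace ↥(D.obj i₀) := inferInstanceAs (CompactSpace ↥(Spec _))
    exact QuasiCompact.compactSpace_of_compactSpace xi
  haveI : QuasiSeparatedSpace ↥(pullback f s₀) := by
    haveI : QuasiSeparatedSpace ↥(D.obj i₀) := inferInstanceAs (QuasiSeparatedSpace ↥(Spec _))
    exact quasiSeparatedSpace_of_quasiSeparated xi
  let q₀ : pullback f g' ⟶ pullback f s₀ :=
    pullback.lift (pullback.fst f g') (pullback.snd f g' ≫ cD.π.app i₀)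
      (by rw [Category.assoc, hs₀]; exact pullback.condition)
  have hX : IsPullback q₀ (pullback.snd f g') xi (cD.π.app i₀) := by
    refine IsPullback.of_right ?_ (pullback.lift_snd _ _ _) (IsPullback.of_hasPullback f s₀)
    rw [pullback.lift_fst, hs₀]
    exact IsPullback.of_hasPullback f g'
  haveI : ∀ {a b : Over i₀} (g : a ⟶ b), IsAffineHom ((MorLib.BC.diag D xi).map g) := fun g =>
    MorphismProperty.of_isPullback (MorLib.BC.isPullback_map D xi g).flip inferInstance
  haveI : ∀ j, CompactSpace ((MorLib.BC.diag D xi).obj j) := fun j => by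
    show CompactSpace ↥(pullback xi (D.map j.hom))
    exact QuasiCompact.compactSpace_of_compactSpace (pullback.fst xi (D.map j.hom))
  haveI : ∀ j, QuasiSeparatedSpace ((MorLib.BC.diag D xi).obj j) := fun j => by
    show QuasiSeparatedSpace ↥(pullback xi (D.map j.hom))
    exact quasiSeparatedSpace_of_quasiSeparated (pullback.fst xi (D.map j.hom))
  obtain ⟨Ld, rfl, hLd⟩ := hd
  obtain ⟨j, -, Lj, hLj, ⟨θ⟩⟩ := PicLim.exists_invertible_descend (MorLib.BC.diag D xi)
    (MorLib.BC.cone D xi hX) (MorLib.BC.isLimitCone D xi hX hlim) (Over.mk (𝟙 i₀)) Ld hLd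
  obtain ⟨s, hs⟩ := j.left.unop.2
  let Bj := j.left.unop.1
  let F₀ : IntermediateField k k' := IntermediateField.adjoin k (s : Set k')
  haveI : FiniteDimensional k F₀ :=
    IntermediateField.finiteDimensional_adjoin fun y _ => (Algebra.IsAlgebraic.isAlgebraic y).isIntegral
  let E : IntermediateField k k' := IntermediateField.normalClosure k F₀ k'
  haveI : IsGalois k E := ⟨⟩
  have hle : Bj ≤ E.toSubalgebra := by
    refine le_trans ?_ (show F₀.toSubalgebra ≤ E.toSubalgebra from IntermediateField.le_normalClosure F₀)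
    rw [show Bj = Algebra.adjoin k (s : Set k') from hs.symm]
    exact Algebra.adjoin_le (IntermediateField.subset_adjoin k (s : Set k'))
  let gE := Spec.map (CommRingCat.ofHom (algebraMap k E))
  let hh : pullback f g' ⟶ pullback f gE :=
    pullback.lift (pullback.fst f g') (pullback.snd f g' ≫ Spec.map (CommRingCat.ofHom (algebraMap E k'))) (by
      rw [pullback.condition, Category.assoc, ← Spec.map_comp]
      rfl)
  let ι : CommRingCat.of Bj ⟶ CommRingCat.of E :=
    CommRingCat.ofHom (Subalgebra.inclusion hle).toRingHom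
  let φ₀ : pullback f gE ⟶ pullback f s₀ :=
    pullback.lift (pullback.fst f gE) (pullback.snd f gE ≫ Spec.map ι ≫ D.map j.hom) (by
      rw [pullback.condition]
      simp only [Category.assoc]
      congr 1
      show Spec.map _ = Spec.map _ ≫ Spec.map _ ≫ Spec.map _
      rw [← Spec.map_comp, ← Spec.map_comp]
      rfl)
  let φ : pullback f gE ⟶ (MorLib.BC.diag D xi).obj j :=
    pullback.lift φ₀ (pullback.snd f gE ≫ Spec.map ι) (by rw [pullback.lift_snd, Category.assoc])
  have key : hh ≫ φ = MorLib.BC.proj (c := cD) D xi hX j := by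
    have hsnd : hh ≫ pullback.snd f gE ≫ Spec.map ι = pullback.snd f g' ≫ cD.π.app j.left := by
      rw [pullback.lift_snd_assoc, Category.assoc]
      congr 1
      show Spec.map _ ≫ Spec.map _ = Spec.map _
      rw [← Spec.map_comp]
      rfl
    apply pullback.hom_ext
    · rw [Category.assoc, pullback.lift_fst, MorLib.BC.proj_fst]
      apply pullback.hom_ext
      · rw [Category.assoc, pullback.lift_fst, pullback.lift_fst, pullback.lift_fst]
      · rw [Category.assoc, pullback.lift_snd, pullback.lift_snd, reassoc_of% hsnd, cD.w j.hom]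
    · rw [Category.assoc, pullback.lift_snd, MorLib.BC.proj_snd]
      exact hsnd
  refine ⟨E, inferInstance, inferInstance, hh, PicF.pullCl φ (PicF.cl Lj), pullback.lift_fst _ _ _,
    pullback.lift_snd _ _ _, PicLoc.isInvertibleCl_pullCl φ ⟨Lj, rfl, hLj⟩, ?_⟩
  rw [← PicLoc.pullCl_comp, key]
  exact H23.PicMul.cl_eq_iff.2 ⟨θ⟩

/-- Galois-invariant classes descend. -/
theorem exists_descend [CompactSpace X] [QuasiSeparatedSpace X] (hH0 : IsIso f.appTop)
    (x : Spec (CommRingCat.of k) ⟶ X) (hx : x ≫ f = 𝟙 _)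
    (k' : Type u) [Field k'] [Algebra k k'] [IsGalois k k']
    (d : PicF.Cl (pullback f (Spec.map (CommRingCat.ofHom (algebraMap k k'))))) (hd : PicF.IsInvertibleCl d)
    (hfix : ∀ σ : k' ≃ₐ[k] k', PicF.pullCl (PicF2.twistAut f σ) d = d) :
    ∃ c : PicF.Cl X, PicF.IsInvertibleCl c ∧
      PicF.pullCl (pullback.fst f (Spec.map (CommRingCat.ofHom (algebraMap k k')))) c = d := by
  haveI : QuasiCompact f := (quasiCompact_iff_compactSpace f).2 ‹_›
  haveI : QuasiSeparated f := (quasiSeparated_iff_quasiSeparatedSpace f).2 ‹_›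
  obtain ⟨E, hfd, hgal, h, dE, h1, h2, hdE, hpull⟩ := exists_level f k' d hd
  let gE := Spec.map (CommRingCat.ofHom (algebraMap k E))
  haveI : Flat gE := (flat_spec_algebraMap E).1
  let fE : pullback f gE ⟶ Spec (CommRingCat.of E) := pullback.snd f gE
  have hE0 : IsIso fE.appTop := (ConcreteCategory.isIso_iff_bijective _).2
    (PicLocLib.bijective_app_of_flat f gE fE (pullback.fst f gE) (IsPullback.of_hasPullback f gE)
      ((ConcreteCategory.isIso_iff_bijective _).1 hH0) ⊤)
  have sq : IsPullback h (pullback.snd f (Spec.map (CommRingCat.ofHom (algebraMap k k')))) fE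
      (Spec.map (CommRingCat.ofHom (algebraMap E k'))) := by
    refine IsPullback.of_right ?_ h2 (IsPullback.of_hasPullback f gE)
    show IsPullback (h ≫ pullback.fst f gE) _ f (_ ≫ Spec.map _)
    rw [h1, ← Spec.map_comp]
    exact IsPullback.of_hasPullback f _
  have hinj : ∀ {a b : PicF.Cl (pullback f gE)}, PicF.IsInvertibleCl a → PicF.IsInvertibleCl b →
      PicF.pullCl h a = PicF.pullCl h b → a = b := by
    intro a b ha hb hab
    obtain ⟨⟨c, hc⟩, hcb⟩ := H23.PicMul.exists_inv (⟨b, hb⟩ : PicLoc.PicSet _)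
    change c * b = 1 at hcb
    have hca : c * a = 1 := PicInsep.eq_one_of_pullCl fE hE0 (H23.PicMul.isInvertibleCl_mul hc ha) (k' := k') (by
      rw [← sq.isoPullback_inv_fst, PicLoc.pullCl_comp, H23.PicMul.pullCl_mul, hab, ← H23.PicMul.pullCl_mul, hcb,
        H23.PicMul.pullCl_one, H23.PicMul.pullCl_one])
    rw [← _root_.mul_one a, ← hcb, ← _root_.mul_assoc, mul_comm a c, hca, _root_.one_mul]
  obtain ⟨c, hc, hcE⟩ := exists_descend_finite f hH0 x hx E dE hdE fun σ => by
    refine hinj (PicLoc.isInvertibleCl_pullCl _ hdE) hdE ?_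
    have hc : PicF2.twistAut f (σ.liftNormal k') ≫ h = h ≫ PicF2.twistAut f σ := by
      apply pullback.hom_ext
      · rw [Category.assoc, Category.assoc, h1, twistAut_fst, twistAut_fst, h1]
      · rw [Category.assoc, Category.assoc, h2, reassoc_of% (twistAut_snd f (σ.liftNormal k')), twistAut_snd,
          reassoc_of% h2, ← Spec.map_comp, ← Spec.map_comp]
        congr 2
        exact CommRingCat.hom_ext (RingHom.ext fun a => AlgEquiv.liftNormal_commutes σ k' a)
    rw [← PicLoc.pullCl_comp, ← hc, PicLoc.pullCl_comp, hpull, hfix]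
  refine ⟨c, hc, ?_⟩
  rw [← h1, PicLoc.pullCl_comp, hcE, hpull]

end Groth.Agent.PicGal
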