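import Groth.Agent.AlgSpDec.GaloisData
import Groth.Agent.FppfPic.Sigma
import Groth.Prelude.Def_PicF2
import Mathlib.FieldTheory.Galois.Basic
import Mathlib.FieldTheory.Normal.Basic
import Mathlib.AlgebraicGeometry.Morphisms.FlatMono

/-!
# The self-product of a finite Galois base change is the disjoint union of the graphs of the Galois group
-/

set_option autoImplicit false
set_option linter.style.haveILetI false
set_option linter.unusedSectionVars false
set_option backward.isDefEq.respectTransparency false
set_option backward.isDefEq.respectTransparency.types false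
set_option maxHeartbeats 1000000

universe u

open CategoryTheory CategoryTheory.Limits AlgebraicGeometry IsLocalRing

namespace Groth.Agent.PicGal

open AlgSpDec.GaloisData

/-- two sections of a morphism with the same value at a point agree on the residue field -/
theorem sections_eq_at {W Z : Scheme.{u}} (q : W ⟶ Z) (s t : Z ⟶ W) (hs : s ≫ q = 𝟙 Z) (ht : t ≫ q = 𝟙 Z)
    (z : Z) (h : s z = t z) : Z.fromSpecResidueField z ≫ s = Z.fromSpecResidueField z ≫ t := by
  obtain ⟨φ, hφ⟩ := fieldPt_factor (Z.fromSpecResidueField z ≫ s) (x := s z)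
    ((Scheme.Hom.comp_apply _ _ _).trans (congrArg s (Scheme.fromSpecResidueField_apply z _)))
  obtain ⟨ψ, hψ⟩ := fieldPt_factor (Z.fromSpecResidueField z ≫ t) (x := s z)
    ((Scheme.Hom.comp_apply _ _ _).trans ((congrArg t (Scheme.fromSpecResidueField_apply z _)).trans h.symm))
  obtain ⟨a, ha⟩ := fieldPt_factor (W.fromSpecResidueField (s z) ≫ q) (x := z)
    ((Scheme.Hom.comp_apply _ _ _).trans ((congrArg q (Scheme.fromSpecResidueField_apply (s z) _)).trans
      ((Scheme.Hom.comp_apply s q z).symm.trans (congrArg (fun m : Z ⟶ Z => m z) hs))))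
  have h1 : a ≫ φ = 𝟙 _ := fieldPt_injective z (by
    rw [Spec.map_comp, Category.assoc, ha, reassoc_of% hφ, hs, Category.comp_id, Spec.map_id]; exact (Category.id_comp _).symm)
  have h2 : a ≫ ψ = 𝟙 _ := fieldPt_injective z (by
    rw [Spec.map_comp, Category.assoc, ha, reassoc_of% hψ, ht, Category.comp_id, Spec.map_id]; exact (Category.id_comp _).symm)
  suffices φ = ψ by rw [← hφ, ← hψ, this]
  ext x
  have hx : a.hom (φ.hom x) = x := φ.hom.injective (congrArg (fun g => g.hom (φ.hom x)) h1)
  conv_rhs => rw [← hx]
  exact (congrArg (fun g => g.hom (φ.hom x)) h2).symm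

variable {k K : Type u} [Field k] [Field K] [Algebra k K] {X : Scheme.{u}} (f : X ⟶ Spec (CommRingCat.of k))

theorem twistAut_fst (σ : K ≃ₐ[k] K) :
    PicF2.twistAut f σ ≫ pullback.fst f (Spec.map (CommRingCat.ofHom (algebraMap k K))) = pullback.fst f _ :=
  (pullback.lift_fst _ _ _).trans (Category.comp_id _)

theorem twistAut_snd (σ : K ≃ₐ[k] K) :
    PicF2.twistAut f σ ≫ pullback.snd f (Spec.map (CommRingCat.ofHom (algebraMap k K))) =
      pullback.snd f _ ≫ Spec.map (CommRingCat.ofHom (σ : K →+* K)) :=
  pullback.lift_snd _ _ _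

/-- the graph of a Galois automorphism -/
noncomputable def graph (σ : K ≃ₐ[k] K) :
    pullback f (Spec.map (CommRingCat.ofHom (algebraMap k K))) ⟶
      pullback (pullback.fst f (Spec.map (CommRingCat.ofHom (algebraMap k K))))
        (pullback.fst f (Spec.map (CommRingCat.ofHom (algebraMap k K)))) :=
  pullback.lift (PicF2.twistAut f σ) (𝟙 _) (by rw [twistAut_fst, Category.id_comp])

theorem graph_fst (σ : K ≃ₐ[k] K) : graph f σ ≫ pullback.fst _ _ = PicF2.twistAut f σ := pullback.lift_fst _ _ _

theorem graph_snd (σ : K ≃ₐ[k] K) : graph f σ ≫ pullback.snd _ _ = 𝟙 _ := pullback.lift_snd _ _ _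

theorem graph_eq_of_apply {σ τ : K ≃ₐ[k] K} {z} (h : graph f σ z = graph f τ z) : σ = τ := by
  have h1 := sections_eq_at _ _ _ (graph_snd f σ) (graph_snd f τ) z h
  have h2 := congrArg (fun m => m ≫ pullback.fst _ _ ≫ pullback.snd f _) h1
  simp only [Category.assoc, reassoc_of% (graph_fst f σ), reassoc_of% (graph_fst f τ), twistAut_snd] at h2
  set y := (pullback f (Spec.map (CommRingCat.ofHom (algebraMap k K)))).fromSpecResidueField z ≫
    pullback.snd f (Spec.map (CommRingCat.ofHom (algebraMap k K))) with hy
  rw [← Category.assoc, ← Category.assoc, ← hy, ← Spec.map_preimage y, ← Spec.map_comp, ← Spec.map_comp] at h2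
  have h3 := Spec.map_injective h2
  refine AlgEquiv.ext fun a => (Spec.preimage y).hom.injective ?_
  exact congrArg (fun g => g.hom a) h3

theorem graph_surjective [IsGalois k K] (w : ↥(pullback (pullback.fst f (Spec.map (CommRingCat.ofHom (algebraMap k K))))
    (pullback.fst f (Spec.map (CommRingCat.ofHom (algebraMap k K)))))) :
    ∃ (σ : K ≃ₐ[k] K) (z : ↥(pullback f (Spec.map (CommRingCat.ofHom (algebraMap k K))))), graph f σ z = w := by
  let g := Spec.map (CommRingCat.ofHom (algebraMap k K))
  let W := pullback (pullback.fst f g) (pullback.fst f g)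
  let pt := W.fromSpecResidueField w
  let y₁ := pt ≫ pullback.fst (pullback.fst f g) (pullback.fst f g)
  let y₂ := pt ≫ pullback.snd (pullback.fst f g) (pullback.fst f g)
  have hp : y₁ ≫ pullback.fst f g = y₂ ≫ pullback.fst f g := by
    show (pt ≫ _) ≫ _ = (pt ≫ _) ≫ _
    rw [Category.assoc, Category.assoc, pullback.condition]
  let a := Spec.preimage (y₁ ≫ pullback.snd f g)
  let b := Spec.preimage (y₂ ≫ pullback.snd f g)
  have hab : CommRingCat.ofHom (algebraMap k K) ≫ a = CommRingCat.ofHom (algebraMap k K) ≫ b := by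
    apply Spec.map_injective
    rw [Spec.map_comp, Spec.map_comp, Spec.map_preimage, Spec.map_preimage]
    have h2 : pullback.snd f g ≫ g = pullback.fst f g ≫ f := pullback.condition.symm
    show (y₁ ≫ _) ≫ g = (y₂ ≫ _) ≫ g
    simp only [Category.assoc, h2]
    rw [reassoc_of% hp]
  letI : Algebra k (W.residueField w) := (CommRingCat.ofHom (algebraMap k K) ≫ a).hom.toAlgebra
  letI : Algebra K (W.residueField w) := b.hom.toAlgebra
  haveI : IsScalarTower k K (W.residueField w) := IsScalarTower.of_algebraMap_eq fun r =>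
    congrArg (fun g => g.hom r) hab
  let ψ : K →ₐ[k] W.residueField w := { a.hom with commutes' := fun r => rfl }
  obtain ⟨σ, hσ⟩ : ∃ σ : K ≃ₐ[k] K, ∀ r, b.hom (σ r) = a.hom r :=
    ⟨Normal.algHomEquivAut k (W.residueField w) K ψ, fun r => (show _ = ψ r from by
      conv_rhs => rw [← (Normal.algHomEquivAut k (W.residueField w) K).symm_apply_apply ψ]
      rfl)⟩
  refine ⟨σ, y₂ (closedPoint _), ?_⟩
  have key : y₂ ≫ graph f σ = pt := by
    apply pullback.hom_ext
    · rw [Category.assoc, graph_fst]
      apply pullback.hom_ext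
      · rw [Category.assoc, twistAut_fst]
        exact hp.symm
      · rw [Category.assoc, twistAut_snd]
        show y₂ ≫ pullback.snd f g ≫ _ = y₁ ≫ pullback.snd f g
        rw [← Category.assoc, ← Spec.map_preimage (y₁ ≫ pullback.snd f g), ← Spec.map_preimage (y₂ ≫ pullback.snd f g),
          ← Spec.map_comp]
        congr 1
        exact CommRingCat.hom_ext (RingHom.ext hσ)
    · rw [Category.assoc, graph_snd, Category.comp_id]
  show graph f σ (y₂ (closedPoint _)) = w
  rw [← Scheme.Hom.comp_apply, key]
  exact Scheme.fromSpecResidueField_apply _ _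

/-- two classes on the self-product agreeing on all graphs are equal -/
theorem eq_of_graphs [FiniteDimensional k K] [IsGalois k K]
    {c d : PicF.Cl (pullback (pullback.fst f (Spec.map (CommRingCat.ofHom (algebraMap k K))))
      (pullback.fst f (Spec.map (CommRingCat.ofHom (algebraMap k K)))))}
    (hc : PicF.IsInvertibleCl c) (hd : PicF.IsInvertibleCl d)
    (h : ∀ σ : K ≃ₐ[k] K, PicF.pullCl (graph f σ) c = PicF.pullCl (graph f σ) d) : c = d := by
  haveI : IsSeparated (Spec.map (CommRingCat.ofHom (algebraMap k K))) := inferInstance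
  haveI : Etale (Spec.map (CommRingCat.ofHom (algebraMap k K))) := by
    rw [HasRingHomProperty.Spec_iff (P := @Etale)]
    haveI : Algebra.FormallyEtale k K := (Algebra.FormallyEtale.iff_isSeparable k K).2 inferInstance
    haveI : Algebra.FinitePresentation k K := Algebra.FinitePresentation.of_finiteType.1 inferInstance
    exact RingHom.etale_algebraMap.2 (Algebra.Etale.mk (R := k) (A := K))
  haveI : ∀ σ : K ≃ₐ[k] K, IsOpenImmersion (graph f σ) := fun σ => by
    haveI : Etale (graph f σ ≫ pullback.snd _ _) := by rw [graph_snd]; infer_instance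
    haveI : Etale (pullback.fst f (Spec.map (CommRingCat.ofHom (algebraMap k K)))) := inferInstance
    haveI hq : Etale (pullback.snd (pullback.fst f (Spec.map (CommRingCat.ofHom (algebraMap k K))))
      (pullback.fst f (Spec.map (CommRingCat.ofHom (algebraMap k K))))) := inferInstance
    haveI : Etale (graph f σ) := Etale.of_comp (graph f σ) (pullback.snd _ _)
    haveI : Mono (graph f σ) := by
      haveI : IsSplitMono (graph f σ) := IsSplitMono.mk' ⟨pullback.snd _ _, graph_snd f σ⟩
      infer_instance
    exact IsOpenImmersion.of_flat_of_mono _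
  refine FppfPic.eq_of_disjoint (X := fun _ : K ≃ₐ[k] K => pullback f (Spec.map (CommRingCat.ofHom (algebraMap k K))))
    (fun σ => graph f σ) (fun y => ?_) (fun a b hab => ?_) hc hd h
  · obtain ⟨σ, z, hz⟩ := graph_surjective f y
    exact ⟨σ, z, hz⟩
  · refine disjoint_iff.2 (TopologicalSpace.Opens.ext (Set.eq_empty_iff_forall_notMem.2 ?_))
    rintro _ ⟨⟨z, rfl⟩, z', hz'⟩
    have e := congrArg (pullback.snd (pullback.fst f (Spec.map (CommRingCat.ofHom (algebraMap k K))))
      (pullback.fst f (Spec.map (CommRingCat.ofHom (algebraMap k K))))) hz'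
    rw [← Scheme.Hom.comp_apply, ← Scheme.Hom.comp_apply, graph_snd, graph_snd] at e
    obtain rfl : z' = z := e
    exact hab (graph_eq_of_apply f hz').symm

end Groth.Agent.PicGal
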